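import Groth.Agent.KCohDev46.Filt
import Groth.Agent.Cyc90.SheafLen
import Groth.Prelude.Def_SGA6

/-!
The rank homomorphism of `K₀(Coh X)` at the generic points of the components.
-/

set_option autoImplicit false
set_option backward.isDefEq.respectTransparency.types false

noncomputable section

universe u

open CategoryTheory Limits AlgebraicGeometry TopologicalSpace Opposite

namespace Groth.Agent.K0Rank97

open QC70 KCohDev46

variable {X : Scheme.{u}}

local notation "CC" => (fun M : X.Modules => Coh.IsCoh M)

/-- Points with zero-dimensional local ring. -/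
abbrev MaxPt (X : Scheme.{u}) : Type u := {x : X // ringKrullDim (X.presheaf.stalk x) = 0}

theorem eq_of_specializes (η : MaxPt X) {t : X} (h : t ⤳ η.1) : t = η.1 := by
  by_contra hne
  have hlt : η.1 < t := lt_of_le_not_ge h fun h' => hne (h.antisymm h').eq
  have h1 : Order.coheight t + 1 ≤ Order.coheight η.1 := Order.coheight_add_one_le hlt
  have h0 := η.2
  rw [ringKrullDim_stalk_eq_coheight] at h0
  have h0' : Order.coheight η.1 = 0 := by exact_mod_cast h0
  rw [h0'] at h1
  simp at h1

instance finite_maxPt [IsNoetherian X] : Finite (MaxPt X) := by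
  have hmem : ∀ η : MaxPt X, closure ({η.1} : Set X) ∈ irreducibleComponents (X : Type u) := by
    refine fun η => ⟨isIrreducible_singleton.closure, fun Z hZ hle => ?_⟩
    obtain ⟨g, hg⟩ := QuasiSober.sober hZ.closure isClosed_closure
    have hgη : g ⤳ η.1 := hg.specializes (subset_closure (hle (subset_closure rfl)))
    rw [← eq_of_specializes η hgη, hg.def]
    exact subset_closure
  haveI := (NoetherianSpace.finite_irreducibleComponents (α := X)).to_subtype
  exact Finite.of_injective (fun η => (⟨_, hmem η⟩ : irreducibleComponents (X : Type u))) fun a b hab => by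
    have h : closure ({a.1} : Set X) = closure {b.1} := congrArg Subtype.val hab
    exact Subtype.ext ((specializes_iff_mem_closure.2 (h.ge (subset_closure rfl))).antisymm
      (specializes_iff_mem_closure.2 (h.le (subset_closure rfl)))).eq

variable [IsNoetherian X]

theorem length_ne_top {F : X.Modules} (hF : Coh.IsCoh F) (η : MaxPt X) :
    Module.length (X.presheaf.stalk η.1) (F.presheaf.stalk η.1) ≠ ⊤ :=
  Cyc90.length_stalk_ne_top F hF η.1 fun _ _ h => eq_of_specializes η h

/-- The generic lengths. -/
def lenVec (F : X.Modules) : MaxPt X → ℤ :=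
  fun η => ((Module.length (X.presheaf.stalk η.1) (F.presheaf.stalk η.1)).toNat : ℤ)

theorem lenVec_add (S : ShortComplex X.Modules) (hS : S.ShortExact) (h₁ : Coh.IsCoh S.X₁)
    (h₃ : Coh.IsCoh S.X₃) : lenVec S.X₂ = lenVec S.X₁ + lenVec S.X₃ := by
  funext η
  simp only [lenVec, Pi.add_apply, length_stalk_add S hS η.1,
    ENat.toNat_add (length_ne_top h₁ η) (length_ne_top h₃ η)]
  push_cast
  ring

/-- The rank homomorphism. -/
theorem exists_rk : ∃ rk : SGA6.Kcoh X →+ (MaxPt X → ℤ),
    ∀ F : X.Modules, Coh.IsCoh F → rk (KZero.clSub CC F) = lenVec F := by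
  let φ : FreeAbelianGroup (Subtype CC) →+ (MaxPt X → ℤ) := FreeAbelianGroup.lift fun M => lenVec M.1
  have hφ : KZero.relSub CC ≤ φ.ker := by
    refine (AddSubgroup.closure_le _).2 ?_
    rintro _ ⟨S, h₁, h₂, h₃, hS, rfl⟩
    show φ _ = 0
    simp only [φ, map_sub, FreeAbelianGroup.lift_apply_of, lenVec_add S hS h₁ h₃]
    abel
  refine ⟨QuotientAddGroup.lift _ φ hφ, fun F hF => ?_⟩
  rw [clSub_eq CC hF]
  exact FreeAbelianGroup.lift_apply_of _ _

/-- Classes supported away from the generic points. -/
abbrev lowSub (X : Scheme.{u}) : AddSubgroup (SGA6.Kcoh X) :=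
  AddSubgroup.closure {c : SGA6.Kcoh X | ∃ F : X.Modules, Coh.IsCoh F ∧
    (∀ x ∈ CohB1.support F, (1 : WithBot ℕ∞) ≤ ringKrullDim (X.presheaf.stalk x)) ∧
    c = KZero.clSub (fun M : X.Modules => Coh.IsCoh M) F}

theorem one_le_dim_iff (x : X) :
    (1 : WithBot ℕ∞) ≤ ringKrullDim (X.presheaf.stalk x) ↔ ringKrullDim (X.presheaf.stalk x) ≠ 0 := by
  rw [ringKrullDim_stalk_eq_coheight, ← WithBot.coe_one, WithBot.coe_le_coe, Order.one_le_iff_pos,
    pos_iff_ne_zero]
  exact ⟨fun h h' => h (by exact_mod_cast h'), fun h h' => h (by rw [h']; rfl)⟩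

/-- The combination of closure classes with the generic lengths as coefficients. -/
def main (v : MaxPt X → ℤ) : SGA6.Kcoh X :=
  letI := Fintype.ofFinite (MaxPt X)
  ∑ η, v η • KZero.clSub CC (Cyc.closureStructureSheaf η.1)

theorem main_add (v w : MaxPt X → ℤ) : main (v + w) = main v + main w := by
  simp only [main, Pi.add_apply, add_smul, Finset.sum_add_distrib]

theorem lenVec_closureStructureSheaf [DecidableEq (MaxPt X)] (η : MaxPt X) :
    lenVec (Cyc.closureStructureSheaf η.1) = Pi.single η (1 : ℤ) := by
  funext ξ
  by_cases h : ξ = η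
  · subst h
    rw [lenVec, length_stalk_closureStructureSheaf, Pi.single_eq_same]
    rfl
  · rw [Pi.single_eq_of_ne h, lenVec, length_eq_zero_of_notMem fun hmem => h (Subtype.ext
      (eq_of_specializes ξ (specializes_iff_mem_closure.2 (support_closureStructureSheaf _ hmem))).symm)]
    rfl

theorem clSub_sub_main_mem (F : X.Modules) (hF : Coh.IsCoh F) :
    KZero.clSub CC F - main (lenVec F) ∈ lowSub X := by
  classical
  refine devissage_one (fun M => Coh.IsCoh M → KZero.clSub CC M - main (lenVec M) ∈ lowSub X)
    (fun M hM _ => ?_) (fun S hS h₁ h₂ h₃ g₁ g₃ _ => ?_) Set.univ isClosed_univ (fun y _ IH => ?_) F hF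
    (Set.subset_univ _) hF
  · rw [clSub_isZero hM]
    have : lenVec M = 0 := by
      funext η
      have hs : η.1 ∉ CohB1.support M := notMem_support_iff.2 (subsingleton_of_forall_eq 0 fun e =>
        (stalkMapM_id η.1 e).symm.trans (by rw [(IsZero.iff_id_eq_zero M).1 hM, stalkMapM_zero]))
      rw [lenVec, length_eq_zero_of_notMem hs]
      rfl
    rw [this]
    simp [main]
  · rw [clSub_add CC S hS h₁ h₂ h₃, lenVec_add S hS h₁ h₃, main_add, add_sub_add_comm]
    exact add_mem (g₁ h₁) (g₃ h₃)
  · have hG := isCoh_closureStructureSheaf y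
    have hgood : KZero.clSub CC (Cyc.closureStructureSheaf y) - main (lenVec (Cyc.closureStructureSheaf y)) ∈
        lowSub X := by
      by_cases hy : ringKrullDim (X.presheaf.stalk y) = 0
      · rw [lenVec_closureStructureSheaf ⟨y, hy⟩]
        simp [main, Pi.single_apply]
      · have hv : lenVec (Cyc.closureStructureSheaf y) = 0 := by
          funext ξ
          rw [lenVec, length_eq_zero_of_notMem fun hmem => hy (by
            rw [eq_of_specializes ξ (specializes_iff_mem_closure.2 (support_closureStructureSheaf y hmem))]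
            exact ξ.2)]
          rfl
        rw [hv, show main (0 : MaxPt X → ℤ) = 0 by simp [main], sub_zero]
        refine AddSubgroup.subset_closure ⟨_, hG, fun x hx => (one_le_dim_iff x).2 fun h0 => hy ?_, rfl⟩
        rw [eq_of_specializes ⟨x, h0⟩ (specializes_iff_mem_closure.2 (support_closureStructureSheaf y hx))]
        exact h0
    refine ⟨_, hG, length_stalk_closureStructureSheaf y, fun J hJ _ => ?_⟩
    haveI := hG.1
    have hq := isCoh_quot J hG
    have hsl := (support_quot_subset_left J (Cyc.closureStructureSheaf y)).trans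
      (support_closureStructureSheaf y)
    have h3 := IH _ hq hsl (fun h => hJ (support_quot_subset_right J _ h)) hq
    have hS := quotSC_shortExact J (Cyc.closureStructureSheaf y)
    have := sub_mem hgood h3
    convert this using 1
    have e₁ := clSub_add CC _ hS (isCoh_idealMul J hG) hG hq
    have e₂ := congrArg main (lenVec_add _ hS (isCoh_idealMul J hG) hq)
    rw [main_add] at e₂
    change KZero.clSub CC (quotSC J (Cyc.closureStructureSheaf y)).X₁ -
        main (lenVec (quotSC J (Cyc.closureStructureSheaf y)).X₁) =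
      KZero.clSub CC (quotSC J (Cyc.closureStructureSheaf y)).X₂ -
          main (lenVec (quotSC J (Cyc.closureStructureSheaf y)).X₂) -
        (KZero.clSub CC (quotSC J (Cyc.closureStructureSheaf y)).X₃ -
          main (lenVec (quotSC J (Cyc.closureStructureSheaf y)).X₃))
    rw [e₁, e₂]
    abel

theorem rk_spec (rk : SGA6.Kcoh X →+ (MaxPt X → ℤ))
    (hrk : ∀ F : X.Modules, Coh.IsCoh F → rk (KZero.clSub CC F) = lenVec F) :
    Function.Surjective rk ∧ rk.ker = lowSub X := by
  classical
  letI := Fintype.ofFinite (MaxPt X)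
  have hmain : ∀ v, rk (main v) = v := fun v => by
    funext ξ
    simp only [main, map_sum, map_zsmul, hrk _ (isCoh_closureStructureSheaf _), lenVec_closureStructureSheaf,
      Finset.sum_apply, Pi.smul_apply, Pi.single_apply]
    simp
  refine ⟨fun v => ⟨main v, hmain v⟩, le_antisymm (fun c hc => ?_) ((AddSubgroup.closure_le _).2 ?_)⟩
  · have key : ∀ c, c - main (rk c) ∈ lowSub X := by
      intro c
      induction c using QuotientAddGroup.induction_on with
      | H z =>
        induction z using FreeAbelianGroup.induction_on with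
        | zero => simp [main]
        | of M =>
          have e : (QuotientAddGroup.mk (FreeAbelianGroup.of M) : SGA6.Kcoh X) = KZero.clSub CC M.1 :=
            (clSub_eq CC M.2).symm
          rw [e, hrk _ M.2]
          exact clSub_sub_main_mem M.1 M.2
        | neg M h =>
          have e : main (-rk (QuotientAddGroup.mk (FreeAbelianGroup.of M))) =
              -main (rk (QuotientAddGroup.mk (FreeAbelianGroup.of M))) := by
            simp [main, neg_smul]
          rw [QuotientAddGroup.mk_neg, map_neg, e, ← neg_sub']
          exact neg_mem h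
        | add a b ha hb =>
          rw [QuotientAddGroup.mk_add, map_add, main_add, add_sub_add_comm]
          exact add_mem ha hb
    have := key c
    rw [AddMonoidHom.mem_ker.1 hc, show main (0 : MaxPt X → ℤ) = 0 by simp [main], sub_zero] at this
    exact this
  · rintro _ ⟨F, hF, hsupp, rfl⟩
    refine AddMonoidHom.mem_ker.2 ?_
    rw [hrk F hF]
    funext η
    rw [lenVec, length_eq_zero_of_notMem fun h => (one_le_dim_iff η.1).1 (hsupp _ h) η.2]
    rfl

end Groth.Agent.K0Rank97
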